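import Groth.Agent.Lib.JumpPts28.Count
import Groth.Agent.Lib.OmegaPn27.Proj
import Groth.Agent.Lib.K0Pn22.Basic
import Groth.Agent.Lib.LineFlag12.H0
import Groth.Agent.S17341

/-!
# A bundle of rank two with prescribed jumping lines: construction and Euler characteristics
-/

set_option autoImplicit false
set_option maxHeartbeats 1600000
set_option linter.style.haveILetI false
set_option backward.isDefEq.respectTransparency false

universe u

open CategoryTheory CategoryTheory.Limits AlgebraicGeometry TopologicalSpace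

noncomputable section

namespace GrothLib.JumpPts28

/-- Additivity, in terms of the three terms. -/
theorem euler_add {k : Type u} [Field k] {X : Scheme.{u}} [X.Over (Spec (CommRingCat.of k))]
    [IsProper (X ↘ Spec (CommRingCat.of k))] {A B C : X.Modules} {S : ShortComplex X.Modules} (hS : S.ShortExact)
    (h₁ : S.X₁ = A) (h₂ : S.X₂ = B) (h₃ : S.X₃ = C) (hA : Coh.IsCoh A) (hB : Coh.IsCoh B) (hC : Coh.IsCoh C) :
    Curv2.euler k X B = Curv2.euler k X A + Curv2.euler k X C := by
  haveI := Euler.isNoetherian_of_proper (X := X) k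
  subst h₁ h₂ h₃
  exact Euler.euler_additive k hS hA hB hC

variable (k : Type u) [Field k] [IsAlgClosed k] [CharZero k]

local notation "P2" => CohB1.ProjSpace 2 k

/-- The extension attached to a finite set of points. -/
theorem exists_extension (Z : Finset P2) (hZc : IsClosed (Z : Set P2)) (hZ : ∀ z ∈ Z, IsClosed ({z} : Set P2)) :
    ∃ (E : (P2).Modules) (s : Coh.structureModule P2 ⟶ E) (p : E ⟶ ClSub.idealMod (ptsI Z hZc)) (w : s ≫ p = 0),
      FlatMod.IsFinLocFreeOfRank 2 E ∧ (ShortComplex.mk s p w).ShortExact := by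
  haveI := Chow.isProper_toSpec 2 k
  haveI : IsProper (P2 ↘ Spec (CommRingCat.of k)) := inferInstanceAs (IsProper (CohB1.ProjSpace.toSpec 2 k))
  haveI : Smooth (P2 ↘ Spec (CommRingCat.of k)) := CurveMult.smooth_toSpec 2 k
  haveI : IsIntegral P2 := ProjDim.isIntegral_proj (n := 2) (k := k)
  haveI := Euler.isNoetherian_of_proper (X := P2) k
  haveI : IrreducibleSpace P2 := inferInstance
  let ω := Twist.twistProjSpace 2 k (-((2 : ℕ) : ℤ) - 1)
  have hω : ExtPow.IsExtPow 2 (Omega.sheaf (P2 ↘ Spec (CommRingCat.of k))) ω := by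
    have := OmegaPn27.isExtPow_twist (n := 2) k
    rwa [show (-(((2 : ℕ) : ℤ) + 1)) = -((2 : ℕ) : ℤ) - 1 by ring] at this
  have hOi : PicF.IsInvertible (Coh.structureModule P2) := Euler.isInvertible_structure
  obtain ⟨E, s, p, w, hE, hS⟩ := (Groth.Agent.S17341.result k P2
    (by exact_mod_cast LineFlag12.dim_projSpace (k := k) 2) (Twist.twistProjSpace 2 k 1)
    (Ample.isAmple_twistProjSpace_one 2 k) (Coh.structureModule P2) hOi ω hω Z hZc hZ).2 fun z _ σ _ => by
      have h0 : Subsingleton (Coh.HH P2 (CohB1.tensorMod (Coh.structureModule P2) ω) 0) :=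
        (Euler.hhEquiv (A := k) (OX.tensorUnitLeftIso ω) 0).toEquiv.subsingleton_congr.2
          (ProjCohom.subsingleton_HH (by omega) (by omega))
      have hσ : σ = 0 := by
        by_contra h
        haveI := CurveMult.nontrivial_H0_of_hom h
        exact not_subsingleton (Coh.HH P2 (CohB1.tensorMod (Coh.structureModule P2) ω) 0) h0
      subst hσ
      rw [CBExt28.mem_support_zeroScheme_iff (Ample.isInvertible_tensorMod hOi (CMReg.isInvertible_twist _))]
      intro hs
      obtain ⟨t, ht⟩ := Ref1.exists_gen_of_isInvertible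
        (Ample.isInvertible_tensorMod hOi (CMReg.isInvertible_twist (n := 2) (k := k) (-((2 : ℕ) : ℤ) - 1))) z
      obtain ⟨v, hv⟩ := hs t
      refine ht.ne_zero ?_
      rw [← hv, Kodaira.stalkLin_zero_apply]
  let c : CohB1.tensorMod (Coh.structureModule P2) (ClSub.idealMod (ptsI Z hZc)) ≅ ClSub.idealMod (ptsI Z hZc) :=
    OX.tensorUnitLeftIso _
  have w' : s ≫ p ≫ c.hom = 0 := by rw [← Category.assoc, w, zero_comp]
  refine ⟨E, s, p ≫ c.hom, w', hE, ShortComplex.shortExact_of_iso ?_ hS⟩
  exact ShortComplex.isoMk (Iso.refl _) (Iso.refl _) c (by simp) (by simp)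

omit [IsAlgClosed k] [CharZero k] in
theorem euler_O (n : ℕ) : Curv2.euler k (CohB1.ProjSpace n k) (Coh.structureModule (CohB1.ProjSpace n k)) = 1 := by
  obtain ⟨z⟩ := CMReg.nonempty_twist_zero (n := n) (k := k)
  rw [← Euler.euler_of_iso k z, K0Pn22.euler_twist (n := n) (k := k) 0 (by omega)]
  simp

theorem euler_E {Z : Finset P2} {hZc : IsClosed (Z : Set P2)} (hZ : ∀ z ∈ Z, IsClosed ({z} : Set P2))
    {E : (P2).Modules} {s : Coh.structureModule P2 ⟶ E} {p : E ⟶ ClSub.idealMod (ptsI Z hZc)} {w : s ≫ p = 0}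
    (hE : FlatMod.IsFinLocFreeOfRank 2 E) (hS : (ShortComplex.mk s p w).ShortExact) :
    Curv2.euler k P2 E = 2 - (Z.card : ℤ) ∧
      Curv2.euler k P2 (CohB1.tensorMod E (Twist.twistProjSpace 2 k (-1))) = -(Z.card : ℤ) := by
  haveI := Chow.isProper_toSpec 2 k
  haveI : IsProper (P2 ↘ Spec (CommRingCat.of k)) := inferInstanceAs (IsProper (CohB1.ProjSpace.toSpec 2 k))
  haveI : IsIntegral P2 := ProjDim.isIntegral_proj (n := 2) (k := k)
  haveI := Euler.isNoetherian_of_proper (X := P2) k
  have hOc : Coh.IsCoh (Coh.structureModule P2) := Euler.isCoh_of_isInvertible Euler.isInvertible_structure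
  have hIc := CBExt28.isCoh_idealMod k (ptsI Z hZc)
  have hEc := Euler.isCoh_of_isFinLocFree (FinCov.isFinLocFree_of_rank hE)
  have hQc := Snapper.isCoh_quotMod k (ptsI Z hZc)
  have hI := euler_ptsI k Z hZc hZ
  have h1 : Curv2.euler k P2 E = Curv2.euler k P2 (Coh.structureModule P2) +
      Curv2.euler k P2 (ClSub.idealMod (ptsI Z hZc)) := euler_add hS rfl rfl rfl hOc hEc hIc
  refine ⟨by rw [h1, hI, euler_O]; ring, ?_⟩
  let L := Twist.twistProjSpace 2 k (-1)
  have hL := CMReg.isInvertible_twist (n := 2) (k := k) (-1)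
  have hflat := OX.flat_of_isFinLocFree (Euler.isFinLocFree_of_isInvertible hL)
  have hS' := OX.tensor_map_shortExact hflat hS
  have hQ := OX.tensor_map_shortExact hflat (ArSurf29.shortExact_ideal (ptsI Z hZc))
  have h2 : Curv2.euler k P2 (CohB1.tensorMod E L) = Curv2.euler k P2 (CohB1.tensorMod (Coh.structureModule P2) L) +
      Curv2.euler k P2 (CohB1.tensorMod (ClSub.idealMod (ptsI Z hZc)) L) :=
    euler_add hS' rfl rfl rfl (CMReg.isCoh_tensorMod hOc hL) (CMReg.isCoh_tensorMod hEc hL)
      (CMReg.isCoh_tensorMod hIc hL)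
  have h3 : Curv2.euler k P2 (CohB1.tensorMod (Coh.structureModule P2) L) =
      Curv2.euler k P2 (CohB1.tensorMod (ClSub.idealMod (ptsI Z hZc)) L) +
        Curv2.euler k P2 (CohB1.tensorMod (ClSub.quotMod (ptsI Z hZc)) L) :=
    euler_add hQ rfl rfl rfl (CMReg.isCoh_tensorMod hIc hL) (CMReg.isCoh_tensorMod hOc hL)
      (CMReg.isCoh_tensorMod hQc hL)
  have h4 : Curv2.euler k P2 (CohB1.tensorMod (Coh.structureModule P2) L) = 0 := by
    refine (Euler.euler_of_iso k (OX.tensorUnitLeftIso L)).trans ?_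
    rw [K0Pn22.euler_twist (n := 2) (k := k) (-1) (by omega)]
    simp
  have h5 : Curv2.euler k P2 (Coh.structureModule P2) = Curv2.euler k P2 (ClSub.idealMod (ptsI Z hZc)) +
      Curv2.euler k P2 (ClSub.quotMod (ptsI Z hZc)) :=
    euler_add (ArSurf29.shortExact_ideal (ptsI Z hZc)) rfl rfl rfl hIc hOc hQc
  have hsupp : CohB1.support (ClSub.quotMod (ptsI Z hZc)) ⊆ (Z : Set P2) := fun x hx => by
    have := Snapper.support_quotMod _ hx
    rwa [Scheme.IdealSheafData.coe_support_vanishingIdeal] at this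
  have h6 : Curv2.euler k P2 (CohB1.tensorMod (ClSub.quotMod (ptsI Z hZc)) L) =
      Curv2.euler k P2 (ClSub.quotMod (ptsI Z hZc)) := by
    have := Euler.euler_tF_of_finite_support k (Euler.isFinLocFreeOfRank_one' hL) hQc
      (Z.finite_toSet.subset hsupp) fun x hx => hZ x (hsupp hx)
    refine this.trans ?_
    simp
  rw [h2]
  rw [hI, euler_O] at h5
  rw [h4, h6] at h3
  rw [h4]
  omega

end GrothLib.JumpPts28
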