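import Groth.Agent.Lib.CBLci28.Criterion
import Groth.Agent.Lib.CBExt28.Main

/-!
# The Euler characteristic of the ideal of a finite set of points
-/

set_option autoImplicit false
set_option maxHeartbeats 1600000
set_option linter.style.haveILetI false
set_option linter.unusedSectionVars false
set_option backward.isDefEq.respectTransparency false

universe u

open CategoryTheory CategoryTheory.Limits AlgebraicGeometry TopologicalSpace

noncomputable section

namespace GrothLib.JumpPts28

open GrothLib.CBExt28 (Tw)

variable {X : Scheme.{u}} (k : Type u) [Field k] [IsAlgClosed k] [X.Over (Spec (CommRingCat.of k))]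
  [IsProper (X ↘ Spec (CommRingCat.of k))] [IsIntegral X]

local instance (I : X.IdealSheafData) : Mono (ClSub.idealModι I) :=
  inferInstanceAs (Mono (kernel.ι (ClSub.toSubscheme I)))

/-- The ideal of finitely many closed points. -/
abbrev ptsI (W : Finset X) (hWc : IsClosed (W : Set X)) : X.IdealSheafData :=
  Scheme.IdealSheafData.vanishingIdeal ⟨(W : Set X), hWc⟩

include k in
theorem euler_ptsI (W : Finset X) (hWc : IsClosed (W : Set X)) (hW : ∀ z ∈ W, IsClosed ({z} : Set X)) :
    Curv2.euler k X (ClSub.idealMod (ptsI W hWc)) = Curv2.euler k X (Coh.structureModule X) - (W.card : ℤ) := by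
  classical
  haveI := Euler.isNoetherian_of_proper (X := X) k
  induction W using Finset.strongInduction with
  | _ W ih =>
    rcases W.eq_empty_or_nonempty with h0 | ⟨z, hz⟩
    · have hb : ∀ x, Function.Bijective (QCoh.stalkLin (ClSub.idealModι (ptsI W hWc)) x) := fun x =>
        HodgeIndex.stalk_bijective_idealModι _ (by
          rw [Scheme.IdealSheafData.coe_support_vanishingIdeal]
          show x ∉ (W : Set X)
          simp [h0])
      haveI : Epi (ClSub.idealModι (ptsI W hWc)) :=
        (OX.epi_iff _).2 fun x => (ModuleCat.epi_iff_surjective _).2 (hb x).2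
      haveI : IsIso (ClSub.idealModι (ptsI W hWc)) := isIso_of_mono_of_epi _
      rw [Euler.euler_of_iso k (asIso (ClSub.idealModι (ptsI W hWc))), h0]
      simp
    · have hWz : IsClosed ((W.erase z : Finset X) : Set X) := by
        rw [← Set.biUnion_of_singleton ((W.erase z : Finset X) : Set X)]
        exact (W.erase z).finite_toSet.isClosed_biUnion fun y hy => hW y (Finset.mem_of_mem_erase hy)
      have hle : ptsI W hWc ≤ ptsI (W.erase z) hWz :=
        Scheme.IdealSheafData.gc.monotone_u (show ((W.erase z : Finset X) : Set X) ⊆ (W : Set X) from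
          Finset.coe_subset.2 (Finset.erase_subset z W))
      obtain ⟨θ, w, hS⟩ := CBExt28.exists_ses_point (X := X) hWc hW hz hWz (HodgeIndex.idealIncl hle)
        (kernel.lift_ι _ _ _)
      have hQc := Snapper.isCoh_quotMod k (Scheme.IdealSheafData.vanishingIdeal (⟨{z}, hW z hz⟩ : Closeds X))
      have h1 := Euler.euler_additive k hS (CBExt28.isCoh_idealMod k _) (CBExt28.isCoh_idealMod k _) hQc
      have h2 : Curv2.euler k X (ClSub.quotMod (Scheme.IdealSheafData.vanishingIdeal (⟨{z}, hW z hz⟩ : Closeds X))) = 1 := by
        have hsupp : CohB1.support (ClSub.quotMod (Scheme.IdealSheafData.vanishingIdeal (⟨{z}, hW z hz⟩ : Closeds X)))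
            ⊆ {z} := fun x hx => by
          have := Snapper.support_quotMod _ hx
          rwa [Scheme.IdealSheafData.coe_support_vanishingIdeal] at this
        rw [Euler.euler_eq_of_finite_support k _ ((Set.finite_singleton z).subset hsupp)
          fun x hx => by rw [show x = z from hsupp hx]; exact hW z hz]
        have h3 := CBExt28.finrank_H0_tw_point k (Euler.isInvertible_structure (X := X)) (hW z hz)
        rw [(SerrePn27.hhMapEquiv (k := k) (OX.tensorUnitLeftIso
          (ClSub.quotMod (Scheme.IdealSheafData.vanishingIdeal (⟨{z}, hW z hz⟩ : Closeds X)))) 0).finrank_eq] at h3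
        exact_mod_cast h3
      dsimp only at h1
      rw [h2] at h1
      have h1' : Curv2.euler k X (ClSub.idealMod (ptsI (W.erase z) hWz)) =
          Curv2.euler k X (ClSub.idealMod (ptsI W hWc)) + 1 := h1
      have h4 := ih (W.erase z) (Finset.erase_ssubset hz) hWz fun y hy => hW y (Finset.mem_of_mem_erase hy)
      have h5 : ((W.erase z).card : ℤ) + 1 = (W.card : ℤ) := by exact_mod_cast Finset.card_erase_add_one hz
      omega

end GrothLib.JumpPts28
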