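import Groth.Agent.Lib.LocFreeHom.NearFibre
import Groth.Agent.Lib.Goodman.Divisor

/-!
# The image of a pulled back ideal
-/

set_option autoImplicit false
set_option maxHeartbeats 1600000
set_option linter.style.haveILetI false
set_option backward.isDefEq.respectTransparency false

universe u

open CategoryTheory CategoryTheory.Limits AlgebraicGeometry TopologicalSpace
open GrothLib.QCoh (stalkLin)
open scoped TensorProduct

noncomputable section

namespace GrothLib.JumpPts28

variable {X Z : Scheme.{u}}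

theorem mem_range_pullback_ideal (g : Z ⟶ X) (I : X.IdealSheafData)
    (e : (Scheme.Modules.pullback g).obj (Coh.structureModule X) ≅ Coh.structureModule Z) (z : Z)
    (r : Z.presheaf.stalk z) :
    HomSh.unitStalk z r ∈ LinearMap.range
        (stalkLin ((Scheme.Modules.pullback g).map (ClSub.idealModι I) ≫ e.hom) z) ↔
      r ∈ (Goodman.st I (g z)).map (g.stalkMap z).hom := by
  let u := ClSub.idealModι I
  letI := (g.stalkMap z).hom.toAlgebra
  let R := X.presheaf.stalk (g z)
  let S := Z.presheaf.stalk z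
  let E := ModuleCat.extendScalars.{u, u, u} (g.stalkMap z).hom
  let L₀ : E.obj ((OX.stalk (g z)).obj (Coh.structureModule X)) ⟶ (OX.stalk z).obj (Coh.structureModule Z) :=
    (OX.pullStalkIso g z).inv.app (Coh.structureModule X) ≫ (OX.stalk z).map e.hom
  let L : (S ⊗[R] (Coh.structureModule X).presheaf.stalk (g z)) →ₗ[S] (Coh.structureModule Z).presheaf.stalk z :=
    L₀.hom
  let one : (Coh.structureModule X).presheaf.stalk (g z) := HomSh.unitStalk (g z) 1
  let r₀ : S := (HomSh.unitStalk z).symm (L ((1 : S) ⊗ₜ[R] one))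
  have hr₀ : HomSh.unitStalk z r₀ = L ((1 : S) ⊗ₜ[R] one) := LinearEquiv.apply_symm_apply _ _
  have hval : ∀ (s : S) (t : R), L (s ⊗ₜ[R] HomSh.unitStalk (g z) t) =
      HomSh.unitStalk z ((g.stalkMap z).hom t * s * r₀) := fun s t => by
    have h1 : s ⊗ₜ[R] HomSh.unitStalk (g z) t = ((g.stalkMap z).hom t * s) • ((1 : S) ⊗ₜ[R] one) := by
      rw [TensorProduct.smul_tmul', smul_eq_mul, mul_one, show HomSh.unitStalk (g z) t = t • one by
        rw [← map_smul, smul_eq_mul, mul_one], ← TensorProduct.smul_tmul, Algebra.smul_def]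
      rfl
    rw [h1, map_smul, ← hr₀, ← map_smul, smul_eq_mul]
  have hsurj : Function.Surjective L := by
    haveI : IsIso L₀ := inferInstanceAs (IsIso (_ ≫ _))
    exact (ConcreteCategory.bijective_of_isIso L₀).2
  have hu : IsUnit r₀ := by
    obtain ⟨w, hw⟩ := hsurj (HomSh.unitStalk z 1)
    have : ∀ w, ∃ c, L w = HomSh.unitStalk z (c * r₀) := fun w => by
      induction w using TensorProduct.induction_on with
      | zero => exact ⟨0, by rw [map_zero, zero_mul, map_zero]⟩
      | tmul s m =>
        obtain ⟨t, rfl⟩ := (HomSh.unitStalk (g z)).surjective m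
        exact ⟨_, hval s t⟩
      | add a b ha hb =>
        obtain ⟨c, hc⟩ := ha
        obtain ⟨d, hd⟩ := hb
        exact ⟨c + d, by rw [map_add, hc, hd, ← map_add, add_mul]⟩
    obtain ⟨c, hc⟩ := this w
    exact IsUnit.of_mul_eq_one_right c ((HomSh.unitStalk z).injective (hc.symm.trans hw))
  let Eu : (S ⊗[R] (ClSub.idealMod I).presheaf.stalk (g z)) →ₗ[S]
      (S ⊗[R] (Coh.structureModule X).presheaf.stalk (g z)) := (E.map ((OX.stalk (g z)).map u)).hom
  have hEu : ∀ (s : S) (v : (ClSub.idealMod I).presheaf.stalk (g z)),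
      Eu (s ⊗ₜ[R] v) = s ⊗ₜ[R] stalkLin u (g z) v := fun s v => rfl
  let h₁ : (OX.stalk z).obj ((Scheme.Modules.pullback g).obj (ClSub.idealMod I)) ⟶
      E.obj ((OX.stalk (g z)).obj (ClSub.idealMod I)) := (OX.pullStalkIso g z).hom.app (ClSub.idealMod I)
  have hq : ∀ v, stalkLin ((Scheme.Modules.pullback g).map u ≫ e.hom) z v = L (Eu (h₁.hom v)) := fun v => by
    show ((OX.stalk z).map ((Scheme.Modules.pullback g).map u ≫ e.hom)).hom v = _
    rw [Functor.map_comp, LocFreeHom.stalk_pullback_map]
    rfl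
  haveI : IsIso h₁ := inferInstanceAs (IsIso ((OX.pullStalkIso g z).hom.app _))
  have hh₁ : Function.Surjective h₁.hom := (ConcreteCategory.bijective_of_isIso h₁).2
  constructor
  · rintro ⟨v, hv⟩
    rw [hq] at hv
    have : ∀ w, ∃ c ∈ (Goodman.st I (g z)).map (g.stalkMap z).hom, L (Eu w) = HomSh.unitStalk z c := fun w => by
      induction w using TensorProduct.induction_on with
      | zero => exact ⟨0, zero_mem _, by rw [map_zero, map_zero, map_zero]⟩
      | tmul s v =>
        refine ⟨(g.stalkMap z).hom (OmegaBC.sval I (g z) v) * s * r₀, Ideal.mul_mem_right _ _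
          (Ideal.mul_mem_right _ _ (Ideal.mem_map_of_mem _ (LinearMap.mem_range_self _ v))), ?_⟩
        rw [hEu, Goodman.stalkLin_idealModι]
        exact hval s _
      | add a b ha hb =>
        obtain ⟨c, hc, hc'⟩ := ha
        obtain ⟨d, hd, hd'⟩ := hb
        exact ⟨c + d, add_mem hc hd, by rw [map_add, map_add, hc', hd', ← map_add]⟩
    obtain ⟨c, hc, hc'⟩ := this (h₁.hom v)
    rwa [(HomSh.unitStalk z).injective (hv.symm.trans hc')]
  · intro hr
    have hle : (Goodman.st I (g z)).map (g.stalkMap z).hom ≤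
        Submodule.comap (HomSh.unitStalk z).toLinearMap
          (LinearMap.range (stalkLin ((Scheme.Modules.pullback g).map u ≫ e.hom) z)) := by
      rw [Ideal.map_le_iff_le_comap]
      rintro t ⟨v, rfl⟩
      obtain ⟨w, hw⟩ := hh₁ ((↑hu.unit⁻¹ : S) ⊗ₜ[R] v)
      refine ⟨w, ?_⟩
      rw [hq, hw, hEu, Goodman.stalkLin_idealModι]
      refine (hval _ _).trans ?_
      rw [mul_assoc, IsUnit.val_inv_mul, mul_one]
      rfl
    exact hle hr

end GrothLib.JumpPts28
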