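import Groth.Agent.Lib.JumpPts28.Plane
import Groth.Agent.Lib.JumpPts28.Range
import Groth.Agent.Lib.LineOmega28.Split
import Groth.Agent.Lib.GenHom20.Residual

/-!
# The splitting of a bundle on a line with a surjection onto the ideal of points
-/

set_option autoImplicit false
set_option maxHeartbeats 1600000
set_option linter.style.haveILetI false
set_option backward.isDefEq.respectTransparency false

universe u

open CategoryTheory CategoryTheory.Limits AlgebraicGeometry TopologicalSpace
open GrothLib.CurveMult.P1Split (O1)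
open GrothLib.QCoh (stalkLin)

noncomputable section

namespace GrothLib.JumpPts28

variable (k : Type u) [Field k] [IsAlgClosed k]

local notation "P1" => CohB1.ProjSpace 1 k

attribute [local instance] CurveMult.P1Split.overP1

/-- The ideal of finitely many points of the line is a twist. -/
theorem nonempty_ptsI_iso (W : Finset P1) (hWc : IsClosed (W : Set P1)) (hW : ∀ z ∈ W, IsClosed ({z} : Set P1)) :
    Nonempty (ClSub.idealMod (ptsI W hWc) ≅ O1 k (-(W.card : ℤ))) := by
  haveI := Euler.isNoetherian_of_proper (X := P1) k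
  haveI : Mono (ClSub.idealModι (ptsI W hWc)) := inferInstanceAs (Mono (kernel.ι (ClSub.toSubscheme (ptsI W hWc))))
  have hOi : PicF.IsInvertible (Coh.structureModule P1) := Euler.isInvertible_structure
  have hIc : Coh.IsCoh (ClSub.idealMod (ptsI W hWc)) := CBExt28.isCoh_idealMod k _
  have hg : Euler.grank (ClSub.idealMod (ptsI W hWc)) = 1 := by
    have hη : genericPoint P1 ∉ (W : Set P1) := fun hmem => by
      have hc := hW _ hmem
      haveI : Subsingleton P1 := ⟨fun a b => by
        have ha : a ∈ ({genericPoint P1} : Set P1) :=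
          hc.closure_eq.le ((genericPoint_spec P1).specializes trivial).mem_closure
        have hb : b ∈ ({genericPoint P1} : Set P1) :=
          hc.closure_eq.le ((genericPoint_spec P1).specializes trivial).mem_closure
        exact ha.trans hb.symm⟩
      haveI : DiscreteTopology P1 := inferInstance
      have h0 := topologicalKrullDim_zero_of_discreteTopology P1
      rw [CurveMult.P1Split.dim_P1] at h0
      exact absurd h0 (by norm_num)
    have hb : Function.Bijective (stalkLin (ClSub.idealModι (ptsI W hWc)) (genericPoint P1)) :=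
      HodgeIndex.stalk_bijective_idealModι _ (by
        rw [Scheme.IdealSheafData.coe_support_vanishingIdeal]; exact hη)
    refine (LinearEquiv.finrank_eq (LinearEquiv.ofBijective _ hb)).trans ?_
    exact Euler.grank_of_locFree (Euler.isFinLocFreeOfRank_one' hOi)
  have h1 := Euler.isFinLocFreeOfRank_of_mono (CurveMult.P1Split.pid k) (ClSub.idealModι (ptsI W hWc)) hIc
    (Euler.isFinLocFree_of_isInvertible hOi)
  rw [hg] at h1
  obtain ⟨e⟩ := CurveMult.P1Split.nonempty_iso_O1 k (CurveMult.isInvertible_of_rank_one h1)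
  have hd := euler_ptsI k W hWc hW
  rw [Euler.euler_of_iso k e, CurveMult.P1Split.euler_O1, euler_O k 1] at hd
  exact ⟨e ≪≫ eqToIso (by congr 1; omega)⟩

/-- A rank two bundle of degree zero mapping onto `O(-a)`. -/
theorem nonempty_split {F : (P1).Modules} (hF : FlatMod.IsFinLocFreeOfRank 2 F) (hχ : Curv2.euler k P1 F = 2)
    {a : ℕ} (q : F ⟶ O1 k (-(a : ℤ))) [Epi q] :
    Nonempty (F ≅ O1 k (a : ℤ) ⊞ O1 k (-(a : ℤ))) := by
  haveI := Euler.isNoetherian_of_proper (X := P1) k
  obtain ⟨d, hd, ⟨e⟩⟩ := CurveMult.P1Split.exists_splitting k 2 F hF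
  rw [Euler.euler_of_iso k e, LineOmega28.euler_sum, Fin.sum_univ_two] at hχ
  have h01 : d 1 ≤ d 0 := hd (Fin.zero_le _)
  let c : ∀ i, O1 k (d i) ⟶ O1 k (-(a : ℤ)) := fun i => Sigma.ι (fun i : Fin 2 => O1 k (d i)) i ≫ e.inv ≫ q
  have hkey : d 0 = (a : ℤ) := by
    by_cases h0 : -(a : ℤ) < d 0
    · have hc0 : c 0 = 0 := by
        obtain ⟨ψ⟩ := SerrePn27.nonempty_hom_twist_equiv (n := 1) (k := k)
          (show (-(a : ℤ) - d 0) + d 0 = -(a : ℤ) by ring)
        haveI := CurveMult.P1Split.subsingleton_H0 k (d := -(a : ℤ) - d 0) (by omega)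
        exact ψ.injective (Subsingleton.elim _ _)
      haveI hc1 : Epi (c 1) := by
        refine Preadditive.epi_of_cancel_zero _ fun {G} g hg => ?_
        haveI : Epi (e.inv ≫ q) := inferInstance
        rw [← cancel_epi (e.inv ≫ q), comp_zero]
        refine Sigma.hom_ext _ _ fun i => ?_
        rw [comp_zero, ← Category.assoc]
        fin_cases i
        · show c 0 ≫ g = 0
          rw [hc0, zero_comp]
        · exact hg
      have hne : c 1 ≠ 0 := fun h => by
        have hz : IsZero (O1 k (-(a : ℤ))) := (IsZero.iff_id_eq_zero _).2 (by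
          rw [← cancel_epi (c 1), Category.comp_id, comp_zero, h])
        have := Snapper.euler_eq_zero_of_isZero k hz
        rw [CurveMult.P1Split.euler_O1] at this
        by_cases ha : a = 1
        · obtain ⟨t, ht⟩ := Ref1.exists_gen_of_isInvertible (CurveMult.P1Split.inv_O1 k (-(a : ℤ))) (genericPoint P1)
          refine ht.ne_zero ?_
          rw [← GenHom20.stalkLin_id (genericPoint P1) t, (IsZero.iff_id_eq_zero _).1 hz, GenHom20.stalkLin_zero]
        · omega
      haveI : Mono (c 1) := CurveMult.mono_of_ne_zero_invertible k (CurveMult.P1Split.pid k)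
        (CurveMult.P1Split.inv_O1 k _) (Euler.isFinLocFree_of_isInvertible (CurveMult.P1Split.inv_O1 k _)) hne
      haveI : IsIso (c 1) := isIso_of_mono_of_epi _
      have := Euler.euler_of_iso k (asIso (c 1))
      rw [CurveMult.P1Split.euler_O1, CurveMult.P1Split.euler_O1] at this
      omega
    · omega
  have h1 : d 1 = -(a : ℤ) := by omega
  exact ⟨e ≪≫ CurveMult.P1Split.sigmaSucc (fun i : Fin 2 => O1 k (d i)) ≪≫
    biprod.mapIso (eqToIso (by rw [hkey]))
      (coproductUniqueIso (fun i : Fin 1 => O1 k (d i.succ)) ≪≫ eqToIso (by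
        rw [show ((default : Fin 1).succ : Fin 2) = 1 from rfl, h1]))⟩

end GrothLib.JumpPts28
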