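import Groth.Agent.Lib.JumpPts28.Line
import Groth.Agent.Lib.LineFlag12.Basic
import Groth.Agent.Lib.ASBun21.HorrocksGen

/-!
# A bundle of rank two with prescribed jumping lines
-/

set_option autoImplicit false
set_option maxHeartbeats 1600000
set_option linter.style.haveILetI false
set_option backward.isDefEq.respectTransparency false

universe u

open CategoryTheory CategoryTheory.Limits AlgebraicGeometry TopologicalSpace
open GrothLib.CurveMult.P1Split (O1)
open GrothLib.QCoh (stalkLin)

noncomputable section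

namespace GrothLib.JumpPts28

variable (k : Type u) [Field k] [IsAlgClosed k]

local notation "P1" => CohB1.ProjSpace 1 k
local notation "P2" => CohB1.ProjSpace 2 k

attribute [local instance] CurveMult.P1Split.overP1

/-- The restriction of the extension maps onto the ideal of the points on the curve. -/
theorem exists_epi_restrict {X Y : Scheme.{u}} (j : Y ⟶ X) [IsClosedImmersion j] {E : X.Modules}
    (Z : Finset X) (hZc : IsClosed (Z : Set X)) (hZ : ∀ z ∈ Z, IsClosed ({z} : Set X))
    (W : Finset Y) (hWc : IsClosed (W : Set Y)) (hW : ∀ y ∈ W, IsClosed ({y} : Set Y))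
    (hmem : ∀ y, y ∈ W ↔ j y ∈ Z)
    (p : E ⟶ ClSub.idealMod (ptsI Z hZc)) [Epi p] :
    ∃ q : (Scheme.Modules.pullback j).obj E ⟶ ClSub.idealMod (ptsI W hWc), Epi q := by
  haveI : (Scheme.Modules.pullback j).IsLeftAdjoint := (Scheme.Modules.pullbackPushforwardAdjunction j).isLeftAdjoint
  obtain ⟨g⟩ := Ample.nonempty_pullback_structureModule j
  have hst : ∀ y, (Goodman.st (ptsI Z hZc) (j y)).map (j.stalkMap y).hom = Goodman.st (ptsI W hWc) y := by
    intro y
    by_cases hy : y ∈ W
    · rw [CBExt28.st_vanishingIdeal_finite hZc hZ ((hmem y).1 hy), CBExt28.st_vanishingIdeal_finite hWc hW hy]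
      refine le_antisymm ?_ fun r hr => ?_
      · rw [Ideal.map_le_iff_le_comap]
        intro t ht
        rw [Ideal.mem_comap, IsLocalRing.mem_maximalIdeal, mem_nonunits_iff]
        exact fun h => ht ((isUnit_map_iff (j.stalkMap y).hom t).1 h)
      · obtain ⟨t, rfl⟩ := j.stalkMap_surjective y r
        refine Ideal.mem_map_of_mem _ ?_
        rw [IsLocalRing.mem_maximalIdeal, mem_nonunits_iff] at hr ⊢
        exact fun h => hr (h.map (j.stalkMap y).hom)
    · rw [Goodman.st_of_notMem (ptsI Z hZc) (by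
          rw [Scheme.IdealSheafData.coe_support_vanishingIdeal]; exact fun h => hy ((hmem y).2 h)),
        Goodman.st_of_notMem (ptsI W hWc) (by rw [Scheme.IdealSheafData.coe_support_vanishingIdeal]; exact hy),
        Ideal.map_top]
  let q₀ := (Scheme.Modules.pullback j).map p ≫
    ((Scheme.Modules.pullback j).map (ClSub.idealModι (ptsI Z hZc)) ≫ g.hom)
  have hrange : ∀ y r, HomSh.unitStalk y r ∈ LinearMap.range (stalkLin q₀ y) ↔ r ∈ Goodman.st (ptsI W hWc) y := by
    intro y r
    rw [← hst, ← mem_range_pullback_ideal j (ptsI Z hZc) g y r]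
    constructor
    · rintro ⟨v, hv⟩
      exact ⟨stalkLin ((Scheme.Modules.pullback j).map p) y v, (QCoh.stalkLin_comp _ _ _ _).symm.trans hv⟩
    · rintro ⟨v, hv⟩
      haveI : Epi ((Scheme.Modules.pullback j).map p) := inferInstance
      obtain ⟨v', rfl⟩ := QCoh.stalkLin_surjective ((Scheme.Modules.pullback j).map p) y v
      exact ⟨v', (QCoh.stalkLin_comp _ _ _ _).trans hv⟩
  have hex : ∀ y, Function.Exact (stalkLin (ClSub.idealModι (ptsI W hWc)) y)
      (stalkLin (ClSub.toSubscheme (ptsI W hWc)) y) := fun y =>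
    (ShortComplex.ShortExact.moduleCat_exact_iff_function_exact _).1
      ((OX.exact_iff _).1 (ArSurf29.shortExact_ideal (ptsI W hWc)).exact y)
  have h0 : q₀ ≫ ClSub.toSubscheme (ptsI W hWc) = 0 := by
    refine HomColim20.hom_ext_stalkLin fun y v => ?_
    rw [QCoh.stalkLin_comp, GenHom20.stalkLin_zero]
    obtain ⟨r, hr⟩ := (HomSh.unitStalk y).surjective (stalkLin q₀ y v)
    obtain ⟨u, hu⟩ := (hrange y r).1 ⟨v, hr.symm⟩
    rw [← hr, ← hu, ← Goodman.stalkLin_idealModι]
    exact (hex y).apply_apply_eq_zero u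
  refine ⟨kernel.lift (ClSub.toSubscheme (ptsI W hWc)) q₀ h0, (OX.epi_iff _).2 fun y =>
    (ModuleCat.epi_iff_surjective _).2 fun u => ?_⟩
  obtain ⟨v, hv⟩ := (hrange y (OmegaBC.sval (ptsI W hWc) y u)).2 (LinearMap.mem_range_self _ u)
  refine ⟨v, OmegaBC.sval_injective (ptsI W hWc) y ((HomSh.unitStalk y).injective ?_)⟩
  rw [← hv, ← Goodman.stalkLin_idealModι]
  exact (QCoh.stalkLin_comp _ _ _ _).symm.trans (by
    rw [show kernel.lift (ClSub.toSubscheme (ptsI W hWc)) q₀ h0 ≫ ClSub.idealModι (ptsI W hWc) = q₀ from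
      kernel.lift_ι _ _ _])

variable [CharZero k]

/-- The bundle of the points. -/
theorem exists_bundle (m : ℕ) (x : Fin m → P2) (hx : Function.Injective x)
    (hcl : ∀ t, IsClosed ({x t} : Set P2)) :
    ∃ E : (P2).Modules, FlatMod.IsFinLocFreeOfRank 2 E ∧
      ∀ (i : P1 ⟶ P2) [IsClosedImmersion i],
        i ≫ CohB1.ProjSpace.toSpec 2 k = CohB1.ProjSpace.toSpec 1 k →
        Nonempty ((Scheme.Modules.pullback i).obj (Twist.twistProjSpace 2 k 1) ≅ Twist.twistProjSpace 1 k 1) →
        Nonempty ((Scheme.Modules.pullback i).obj E ≅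
          O1 k (Nat.card {t : Fin m // x t ∈ Set.range i.base} : ℤ) ⊞
            O1 k (-(Nat.card {t : Fin m // x t ∈ Set.range i.base} : ℤ))) := by
  classical
  let Z : Finset P2 := Finset.univ.image x
  have hZ : ∀ z ∈ Z, IsClosed ({z} : Set P2) := fun z hz => by
    obtain ⟨t, -, rfl⟩ := Finset.mem_image.1 hz
    exact hcl t
  have hZc : IsClosed (Z : Set P2) := by
    rw [← Set.biUnion_of_singleton (Z : Set P2)]
    exact Z.finite_toSet.isClosed_biUnion hZ
  obtain ⟨E, s, p, w, hE, hS⟩ := exists_extension k Z hZc hZ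
  obtain ⟨hχ, hχ'⟩ := euler_E k hZ hE hS
  haveI : Epi p := hS.epi_g
  refine ⟨E, hE, fun i _ hi hO => ?_⟩
  obtain ⟨j, hjc, K, ι, wj, hSj, ⟨eK⟩, hj, hej, i', hi'c, hfac⟩ :=
    LineFlag12.exists_hyperplane_through (m := 1) (n := 1) le_rfl le_rfl i hi hO
  haveI := hjc
  haveI := hi'c
  haveI : IsIntegral P1 := ProjDim.isIntegral_proj (n := 1) (k := k)
  haveI : Surjective i' := by
    have hd : topologicalKrullDim (Set.range i') = ((1 : ℕ) : WithBot ℕ∞) := by
      rw [← (i'.isClosedEmbedding.isEmbedding.toHomeomorph).isHomeomorph.topologicalKrullDim_eq,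
        LineFlag12.dim_projSpace]
    have hr : Set.range i' = Set.univ := Dim.eq_univ_of_dim_le i'.isClosedEmbedding.isClosed_range
      (by rw [hd, LineFlag12.dim_projSpace]) hd
    exact ⟨fun y => (hr ▸ Set.mem_univ y : y ∈ Set.range i')⟩
  have hrange : Set.range i.base = Set.range j.base := by
    rw [← hfac]
    show Set.range (i' ≫ j).base = _
    rw [Scheme.Hom.comp_base]
    exact i'.surjective.range_comp j.base
  haveI := Euler.isNoetherian_of_proper (X := P1) k
  haveI := Chow.isProper_toSpec 2 k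
  haveI : IsProper (P2 ↘ Spec (CommRingCat.of k)) := inferInstanceAs (IsProper (CohB1.ProjSpace.toSpec 2 k))
  haveI := Euler.isNoetherian_of_proper (X := P2) k
  have hEl := FinCov.isFinLocFree_of_rank hE
  have hEc := Euler.isCoh_of_isFinLocFree hEl
  have hjE := OX.isFinLocFreeOfRank_pullback j hE
  have hjEc := Euler.isCoh_of_isFinLocFree (FinCov.isFinLocFree_of_rank hjE)
  -- the degree
  have hdeg : Curv2.euler k P1 ((Scheme.Modules.pullback j).obj E) = 2 := by
    have hKi : PicF.IsInvertible (Twist.twistProjSpace 2 k (-1)) := CMReg.isInvertible_twist _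
    let e₁ : (ASBun21.HorrocksGen.resSeq j ι wj E).X₁ ≅ CohB1.tensorMod E (Twist.twistProjSpace 2 k (-1)) :=
      Ample.LineData.tensorModMapIso eK (Iso.refl E) ≪≫ GrTilde.tensorModComm _ _
    let e₂ : (ASBun21.HorrocksGen.resSeq j ι wj E).X₂ ≅ E := OX.tensorUnitLeftIso E
    obtain ⟨e₃⟩ : Nonempty ((ASBun21.HorrocksGen.resSeq j ι wj E).X₃ ≅
        (Scheme.Modules.pushforward j).obj ((Scheme.Modules.pullback j).obj E)) :=
      CMReg.nonempty_tensorMod_push j E hEl
    have hp : Coh.IsCoh ((Scheme.Modules.pushforward j).obj ((Scheme.Modules.pullback j).obj E)) :=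
      HodgeIndex.isCoh_push_piece k j hjEc
    have h := euler_add (k := k) (ASBun21.HorrocksGen.resSeq_shortExact j ι wj hSj hEl) rfl rfl rfl
      (QCoh.isCoh_of_iso e₁.symm (CMReg.isCoh_tensorMod hEc hKi)) (QCoh.isCoh_of_iso e₂.symm hEc)
      (QCoh.isCoh_of_iso e₃.symm hp)
    haveI := hjEc.1
    rw [Euler.euler_of_iso k e₁, Euler.euler_of_iso k e₂, Euler.euler_of_iso k e₃,
      Snapper.euler_pushforward (k := k) j hj, hχ, hχ'] at h
    omega
  -- the points on the line
  have hfin : (j ⁻¹' (Z : Set P2)).Finite := Z.finite_toSet.preimage j.isClosedEmbedding.injective.injOn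
  let W : Finset P1 := hfin.toFinset
  have hmem : ∀ y, y ∈ W ↔ j y ∈ Z := fun y => (hfin.mem_toFinset).trans Iff.rfl
  have hW : ∀ y ∈ W, IsClosed ({y} : Set P1) := fun y hy => by
    have : ({y} : Set P1) = j ⁻¹' {j y} := by
      ext y'
      exact ⟨fun h => congrArg _ h, fun h => j.isClosedEmbedding.injective h⟩
    rw [this]
    exact (hZ _ ((hmem y).1 hy)).preimage j.continuous
  have hWc : IsClosed (W : Set P1) := by
    rw [← Set.biUnion_of_singleton (W : Set P1)]
    exact W.finite_toSet.isClosed_biUnion hW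
  have hcard : Nat.card {t : Fin m // x t ∈ Set.range i.base} = W.card := by
    rw [hrange, ← Nat.card_eq_finsetCard]
    refine Nat.card_congr (Equiv.ofBijective (fun t => ⟨t.2.choose, (hmem _).2 (by
      rw [t.2.choose_spec]; exact Finset.mem_image_of_mem x (Finset.mem_univ _))⟩) ⟨fun t t' h => ?_, fun y => ?_⟩)
    · refine Subtype.ext (hx ?_)
      exact t.2.choose_spec.symm.trans ((congrArg j (congrArg Subtype.val h)).trans t'.2.choose_spec)
    · obtain ⟨t, -, ht⟩ := Finset.mem_image.1 ((hmem y.1).1 y.2)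
      have h : x t ∈ Set.range j.base := ⟨y.1, ht.symm⟩
      exact ⟨⟨t, h⟩, Subtype.ext (j.isClosedEmbedding.injective (h.choose_spec.trans ht))⟩
  obtain ⟨q, hq⟩ := exists_epi_restrict j Z hZc hZ W hWc hW hmem p
  obtain ⟨eW⟩ := nonempty_ptsI_iso k W hWc hW
  haveI := hq
  haveI : Epi (q ≫ eW.hom) := inferInstance
  obtain ⟨eS⟩ := nonempty_split k hjE hdeg (a := W.card) (q ≫ eW.hom)
  -- back to `i`
  let pc : ∀ M, (Scheme.Modules.pullback i').obj ((Scheme.Modules.pullback j).obj M) ≅
      (Scheme.Modules.pullback i).obj M := fun M =>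
    (Scheme.Modules.pullbackComp i' j).app M ≪≫ (Scheme.Modules.pullbackCongr hfac).app M
  have hO' : Nonempty ((Scheme.Modules.pullback i').obj (Twist.twistProjSpace 1 k 1) ≅ Twist.twistProjSpace 1 k 1) :=
    ⟨(Scheme.Modules.pullback i').mapIso hej.some.symm ≪≫ pc _ ≪≫ hO.some⟩
  haveI : (Scheme.Modules.pullback i').IsLeftAdjoint := (Scheme.Modules.pullbackPushforwardAdjunction i').isLeftAdjoint
  haveI : (Scheme.Modules.pullback i').Additive :=
    (Scheme.Modules.pullbackPushforwardAdjunction i').left_adjoint_additive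
  obtain ⟨t₁⟩ := CMReg.nonempty_pullback_twist hO' (W.card : ℤ)
  obtain ⟨t₂⟩ := CMReg.nonempty_pullback_twist hO' (-(W.card : ℤ))
  haveI := preservesBinaryBiproducts_of_preservesBiproducts (Scheme.Modules.pullback i')
  rw [hcard]
  exact ⟨(pc E).symm ≪≫ (Scheme.Modules.pullback i').mapIso eS ≪≫
    (Scheme.Modules.pullback i').mapBiprod _ _ ≪≫ biprod.mapIso t₁ t₂⟩

end GrothLib.JumpPts28
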